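import Mathlib.FieldTheory.RatFunc.AsPolynomial
import Mathlib.FieldTheory.IntermediateField.Adjoin.Basic
import Mathlib.Algebra.Polynomial.Taylor
import Mathlib.GroupTheory.Archimedean
import Mathlib.RingTheory.Algebraic.Basic
import Mathlib.Algebra.Ring.GeomSum

/-! Fields with an action of the additive or multiplicative group are simple purely transcendental
extensions of the invariants. -/

set_option autoImplicit false

universe u

open Polynomial

noncomputable section

namespace Groth.L15.GaGmField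

variable {k L : Type u} [Field k] [Field L] [Algebra k L]

/-- A rational coaction: `φ f` is `t ↦ (t · f)`, `c₀` the unit, `op` the group law in the second variable. -/
structure Core (k L : Type u) [Field k] [Field L] [Algebra k L] (c₀ : L) (op : (RatFunc L)[X]) where
  φ : L →+* RatFunc L
  map_base : ∀ a : k, φ (algebraMap k L a) = RatFunc.C (algebraMap k L a)
  denom_ne : ∀ f, (φ f).denom.eval c₀ ≠ 0
  eval_eq : ∀ f, (φ f).num.eval c₀ / (φ f).denom.eval c₀ = f
  cocycle : ∀ f, (φ f).num.map φ * ((φ f).denom.map RatFunc.C).comp op =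
    ((φ f).num.map RatFunc.C).comp op * (φ f).denom.map φ

theorem eq_and_eq_of_mul_eq {K : Type u} [Field K] {P₁ Q₁ P₂ Q₂ : K[X]} (h₁ : IsCoprime P₁ Q₁)
    (h₂ : IsCoprime P₂ Q₂) (m₁ : Q₁.Monic) (m₂ : Q₂.Monic) (e : P₁ * Q₂ = P₂ * Q₁) :
    P₁ = P₂ ∧ Q₁ = Q₂ := by
  have hQ : Q₁ = Q₂ := eq_of_monic_of_associated m₁ m₂ (associated_of_dvd_dvd
    (h₁.symm.dvd_of_dvd_mul_left (e ▸ dvd_mul_left Q₁ P₂))
    (h₂.symm.dvd_of_dvd_mul_left (e.symm ▸ dvd_mul_left Q₂ P₁)))
  subst hQ
  exact ⟨mul_right_cancel₀ m₁.ne_zero e, rfl⟩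

namespace Core

variable {c₀ : L} {op : (RatFunc L)[X]} (c : Core k L c₀ op)

/-- The invariants. -/
def inv : IntermediateField k L where
  carrier := {a | c.φ a = RatFunc.C a}
  mul_mem' {a b} ha hb := by simp_all
  one_mem' := by simp
  add_mem' {a b} ha hb := by simp_all
  zero_mem' := by simp
  algebraMap_mem' a := c.map_base a
  inv_mem' a ha := by simp_all

theorem mem_inv {a : L} : a ∈ c.inv ↔ c.φ a = RatFunc.C a := Iff.rfl

theorem transcendental_of_eq {x : L} {q : L[X]} (hx : c.φ x = algebraMap _ _ q)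
    (hq : 0 < q.natDegree) : Transcendental c.inv x := by
  rintro ⟨p, hp0, hp⟩
  have h : algebraMap L[X] (RatFunc L) ((p.map c.inv.val.toRingHom).comp q) = 0 := by
    have h1 : c.φ (aeval x p) = 0 := by rw [hp, map_zero]
    rw [aeval_def, hom_eval₂, hx] at h1
    rw [← h1, comp, eval₂_map, hom_eval₂]
    congr 1
    ext a
    exact a.2.symm
  rw [map_eq_zero_iff _ (RatFunc.algebraMap_injective L), comp_eq_zero_iff] at h
  rcases h with h | ⟨-, h⟩
  · exact hp0 ((Polynomial.map_eq_zero_iff c.inv.val.toRingHom.injective).1 h)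
  · rw [h, natDegree_C] at hq
    exact hq.false

theorem poly_num_denom {a : L} {p : L[X]} (h : c.φ a = algebraMap _ _ p) :
    (c.φ a).num = p ∧ (c.φ a).denom = 1 := by
  rw [h]
  exact ⟨RatFunc.num_algebraMap p, RatFunc.denom_algebraMap p⟩

theorem eq_eval_of_poly {a : L} {p : L[X]} (h : c.φ a = algebraMap _ _ p) : p.eval c₀ = a := by
  have := c.eval_eq a
  rw [(c.poly_num_denom h).1, (c.poly_num_denom h).2, eval_one, div_one] at this
  exact this

theorem mem_of_natDegree_eq_zero {a : L} {p : L[X]} (h : c.φ a = algebraMap _ _ p)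
    (hp : p.natDegree = 0) : a ∈ c.inv := by
  have e := c.eq_eval_of_poly h
  rw [eq_C_of_natDegree_eq_zero hp, eval_C] at e
  rw [mem_inv, h, eq_C_of_natDegree_eq_zero hp, RatFunc.algebraMap_C, e]

theorem mem_of_coeffs {K : IntermediateField k L} (hc : c₀ ∈ K) (f : L)
    (hn : ∀ i, (c.φ f).num.coeff i ∈ K) (hd : ∀ i, (c.φ f).denom.coeff i ∈ K) : f ∈ K := by
  rw [← c.eval_eq f, eval_eq_sum_range, eval_eq_sum_range]
  exact div_mem (sum_mem fun i _ => mul_mem (hn i) (pow_mem hc i))
    (sum_mem fun i _ => mul_mem (hd i) (pow_mem hc i))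

end Core

section Add

/-- The group law of the additive group. -/
abbrev opAdd (L : Type u) [Field L] : (RatFunc L)[X] := X + Polynomial.C RatFunc.X

variable (c : Core k L 0 (opAdd L))

theorem eval_hasse (P : L[X]) (i : ℕ) :
    (hasseDeriv i (P.map (RatFunc.C : L →+* RatFunc L))).eval RatFunc.X =
      algebraMap L[X] (RatFunc L) (hasseDeriv i P) := by
  have e : hasseDeriv i (P.map (RatFunc.C : L →+* RatFunc L)) = (hasseDeriv i P).map RatFunc.C := by
    ext j
    simp [hasseDeriv_coeff]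
  rw [e, eval_map]
  have h : (eval₂RingHom (RatFunc.C : L →+* RatFunc L) RatFunc.X) = algebraMap L[X] (RatFunc L) :=
    Polynomial.ringHom_ext (fun a => by simp) (by simp)
  exact RingHom.congr_fun h _

theorem map_coeff_add (f : L) :
    (∀ i, c.φ ((c.φ f).num.coeff i) = algebraMap _ _ (hasseDeriv i (c.φ f).num)) ∧
    ∀ i, c.φ ((c.φ f).denom.coeff i) = algebraMap _ _ (hasseDeriv i (c.φ f).denom) := by
  have hcop := RatFunc.isCoprime_num_denom (c.φ f)
  have hm : ((c.φ f).denom.map (RatFunc.C : L →+* RatFunc L)).comp (opAdd L) |>.Monic :=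
    ((RatFunc.monic_denom _).map _).comp_X_add_C _
  obtain ⟨e1, e2⟩ := eq_and_eq_of_mul_eq
    (hcop.map (mapRingHom c.φ))
    ((hcop.map (mapRingHom (RatFunc.C : L →+* RatFunc L))).map (compRingHom (opAdd L)))
    ((RatFunc.monic_denom _).map c.φ) hm (c.cocycle f)
  refine ⟨fun i => ?_, fun i => ?_⟩
  · have := congrArg (fun p => p.coeff i) e1
    simp only [coe_mapRingHom, coeff_map] at this
    rw [this, ← eval_hasse, ← taylor_coeff, taylor_apply]
    rfl
  · have := congrArg (fun p => p.coeff i) e2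
    simp only [coe_mapRingHom, coeff_map] at this
    rw [this, ← eval_hasse, ← taylor_coeff, taylor_apply]
    rfl

theorem exists_adjoin_add (hne : ∃ f, c.φ f ≠ RatFunc.C f) :
    ∃ x : L, Transcendental c.inv x ∧ ∀ f, f ∈ IntermediateField.adjoin k ((c.inv : Set L) ∪ {x}) := by
  let P : ℕ → Prop := fun d => ∃ (a : L) (p : L[X]), c.φ a = algebraMap _ _ p ∧ p.natDegree = d ∧ 0 < d
  have hex : ∃ d, P d := by
    by_contra hno
    push Not at hno
    obtain ⟨f, hf⟩ := hne
    apply hf
    refine c.mem_inv.1 (c.mem_of_coeffs (zero_mem _) f (fun i => ?_) fun i => ?_)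
    · refine c.mem_of_natDegree_eq_zero ((map_coeff_add c f).1 i) (Nat.eq_zero_of_not_pos fun h => ?_)
      exact hno _ ⟨_, _, (map_coeff_add c f).1 i, rfl, h⟩
    · refine c.mem_of_natDegree_eq_zero ((map_coeff_add c f).2 i) (Nat.eq_zero_of_not_pos fun h => ?_)
      exact hno _ ⟨_, _, (map_coeff_add c f).2 i, rfl, h⟩
  classical
  let d := Nat.find hex
  obtain ⟨a, p, ha, hp, hd⟩ : P d := Nat.find_spec hex
  have hmin : ∀ (b : L) (q : L[X]), c.φ b = algebraMap _ _ q → q.natDegree < d → q.natDegree = 0 :=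
    fun b q hb hlt => Nat.eq_zero_of_not_pos fun h =>
      (Nat.not_lt.2 (Nat.find_le ⟨b, q, hb, rfl, h⟩)) hlt
  have hcoeff : ∀ (b : L) (q : L[X]), c.φ b = algebraMap _ _ q → ∀ i,
      c.φ (q.coeff i) = algebraMap _ _ (hasseDeriv i q) := fun b q hb i => by
    have := (map_coeff_add c b).1 i
    rwa [(c.poly_num_denom hb).1] at this
  have hzero : ∀ (b : L) (q : L[X]), c.φ b = algebraMap _ _ q → ∀ i, i < q.natDegree →
      q.natDegree - i < d → ((q.natDegree.choose i : ℕ) : L) = 0 := fun b q hb i hi hlt => by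
    have h0 := hmin _ _ (hcoeff b q hb i) ((natDegree_hasseDeriv_le q i).trans_lt hlt)
    have h1 : (hasseDeriv i q).coeff (q.natDegree - i) = 0 :=
      coeff_eq_zero_of_natDegree_lt (by omega)
    rw [hasseDeriv_coeff, Nat.sub_add_cancel hi.le] at h1
    exact (mul_eq_zero.1 h1).resolve_right
      (leadingCoeff_ne_zero.2 (fun h => by simp [h] at hi))
  have hlead : ∀ (b : L) (q : L[X]), c.φ b = algebraMap _ _ q → q.leadingCoeff ∈ c.inv :=
    fun b q hb => c.mem_of_natDegree_eq_zero (hcoeff b q hb q.natDegree)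
      (Nat.eq_zero_of_le_zero ((natDegree_hasseDeriv_le q _).trans_eq (Nat.sub_self _)))
  have hpow : ((X : L[X]) + 1) ^ d = X ^ d + 1 := by
    ext j
    rw [coeff_X_add_one_pow, coeff_add, coeff_X_pow, coeff_one]
    rcases lt_trichotomy j d with h | h | h
    · rcases Nat.eq_zero_or_pos j with rfl | hj
      · simp [hd.ne]
      · have := hzero a p ha j (hp.symm ▸ h) (by omega)
        rw [hp] at this
        simp [this, h.ne, hj.ne']
    · subst h
      simp [hd.ne']
    · simp [Nat.choose_eq_zero_of_lt h, h.ne', (hd.trans h).ne']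
  have hdvd : ∀ (b : L) (q : L[X]), c.φ b = algebraMap _ _ q → d ∣ q.natDegree := by
    intro b q hb
    by_contra hnd
    set n := q.natDegree
    set r := n % d
    have hr : 0 < r := Nat.pos_of_ne_zero fun h => hnd (Nat.dvd_of_mod_eq_zero h)
    have hrd : r < d := Nat.mod_lt _ hd
    have hn : d ≤ n := Nat.le_of_not_lt fun h => by
      have := hmin b q hb h
      exact hnd (by rw [show n = 0 from this]; exact dvd_zero d)
    have hrn : r < n := hrd.trans_le hn
    have h0 : ((n.choose r : ℕ) : L) = 0 := by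
      have := hzero b q hb (n - r) (by omega) (by omega)
      rwa [Nat.choose_symm hrn.le] at this
    obtain ⟨g, hg⟩ : (X : L[X]) ^ d ∣ (X ^ d + 1) ^ (n / d) - 1 := by
      have := sub_dvd_pow_sub_pow ((X : L[X]) ^ d + 1) 1 (n / d)
      rwa [one_pow, add_sub_cancel_right] at this
    have h1 : ((X : L[X]) + 1) ^ n = X ^ d * (g * (X + 1) ^ r) + (X + 1) ^ r := by
      conv_lhs => rw [← Nat.div_add_mod n d, pow_add, pow_mul, hpow, sub_eq_iff_eq_add.1 hg]
      ring
    have h2 := congrArg (fun q => q.coeff r) h1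
    simp only [coeff_add, coeff_X_pow_mul', coeff_X_add_one_pow, not_le.2 hrd, if_false,
      Nat.choose_self, Nat.cast_one, zero_add] at h2
    exact one_ne_zero (h2.symm.trans h0)
  refine ⟨a, c.transcendental_of_eq ha (hp.symm ▸ hd), ?_⟩
  let K := IntermediateField.adjoin k ((c.inv : Set L) ∪ {a})
  have hFK : ∀ z ∈ c.inv, z ∈ K := fun z hz => IntermediateField.subset_adjoin k _ (Or.inl hz)
  have haK : a ∈ K := IntermediateField.subset_adjoin k _ (Or.inr rfl)
  have key : ∀ (n : ℕ) (b : L) (q : L[X]), c.φ b = algebraMap _ _ q → q.natDegree = n → b ∈ K := by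
    intro n
    induction n using Nat.strong_induction_on with
    | _ n ih =>
      intro b q hb hn
      rcases Nat.eq_zero_or_pos n with rfl | hn0
      · exact hFK _ (c.mem_of_natDegree_eq_zero hb hn)
      obtain ⟨m, hm⟩ := hdvd b q hb
      let e := q.leadingCoeff / p.leadingCoeff ^ m
      have he : e ∈ c.inv := div_mem (hlead b q hb) (pow_mem (hlead a p ha) m)
      have hp0 : p ≠ 0 := fun h => by simp [h] at hp; omega
      have he0 : e ≠ 0 := div_ne_zero (leadingCoeff_ne_zero.2 fun h => by simp [h] at hn; omega)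
        (pow_ne_zero _ (leadingCoeff_ne_zero.2 hp0))
      have hb' : c.φ (b - e * a ^ m) = algebraMap _ _ (q - Polynomial.C e * p ^ m) := by
        rw [map_sub, map_mul, map_pow, hb, ha, c.mem_inv.1 he, map_sub, map_mul, map_pow,
          RatFunc.algebraMap_C]
      have hlt : (q - Polynomial.C e * p ^ m).natDegree < n := by
        by_cases hz : q - Polynomial.C e * p ^ m = 0
        · rw [hz]; simpa using hn0
        have hdeg : (Polynomial.C e * p ^ m).natDegree = q.natDegree := by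
          rw [natDegree_C_mul he0, natDegree_pow, hp, mul_comm]
          exact hm.symm
        have hq0 : q ≠ 0 := fun h => by simp [h] at hn; omega
        have hdd : q.degree = (Polynomial.C e * p ^ m).degree := by
          rw [degree_eq_natDegree hq0,
            degree_eq_natDegree (mul_ne_zero (C_ne_zero.2 he0) (pow_ne_zero _ hp0)), hdeg]
        have hll : q.leadingCoeff = (Polynomial.C e * p ^ m).leadingCoeff := by
          rw [leadingCoeff_mul, leadingCoeff_C, leadingCoeff_pow]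
          exact (div_mul_cancel₀ _ (pow_ne_zero _ (leadingCoeff_ne_zero.2 hp0))).symm
        have := degree_sub_lt hdd hq0 hll
        exact hn ▸ natDegree_lt_natDegree hz this
      have := ih _ hlt _ _ hb' rfl
      simpa using add_mem this (mul_mem (hFK e he) (pow_mem haK m))
  intro f
  exact c.mem_of_coeffs (zero_mem _) f (fun i => key _ _ _ ((map_coeff_add c f).1 i) rfl)
    fun i => key _ _ _ ((map_coeff_add c f).2 i) rfl

end Add

section Mul

/-- The group law of the multiplicative group. -/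
abbrev opMul (L : Type u) [Field L] : (RatFunc L)[X] := Polynomial.C RatFunc.X * X

variable (c : Core k L 1 (opMul L))

theorem map_coeff_mul (f : L) :
    (∀ i : ℕ, c.φ ((c.φ f).num.coeff i) = RatFunc.C ((c.φ f).num.coeff i) *
      RatFunc.X ^ ((i : ℤ) - (c.φ f).denom.natDegree)) ∧
    ∀ i : ℕ, c.φ ((c.φ f).denom.coeff i) = RatFunc.C ((c.φ f).denom.coeff i) *
      RatFunc.X ^ ((i : ℤ) - (c.φ f).denom.natDegree) := by
  set P := (c.φ f).num
  set Q := (c.φ f).denom
  set m := Q.natDegree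
  have hT : (RatFunc.X : RatFunc L) ≠ 0 := RatFunc.X_ne_zero
  let s : RatFunc L := (RatFunc.X ^ m)⁻¹
  have hs : s ≠ 0 := inv_ne_zero (pow_ne_zero _ hT)
  have hcop := RatFunc.isCoprime_num_denom (c.φ f)
  have hdeg : (Polynomial.C RatFunc.X * X : (RatFunc L)[X]).natDegree = 1 := natDegree_C_mul_X _ hT
  have hm : (Polynomial.C s * (Q.map RatFunc.C).comp (opMul L)).Monic := by
    apply monic_C_mul_of_mul_leadingCoeff_eq_one
    rw [leadingCoeff_comp (by rw [hdeg]; exact one_ne_zero), leadingCoeff_map,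
      (RatFunc.monic_denom _).leadingCoeff, map_one, one_mul, leadingCoeff_C_mul_X, natDegree_map]
    exact inv_mul_cancel₀ (pow_ne_zero _ hT)
  obtain ⟨e1, e2⟩ := eq_and_eq_of_mul_eq
    (hcop.map (mapRingHom c.φ))
    ((isCoprime_mul_unit_left (isUnit_C.2 (isUnit_iff_ne_zero.2 hs)) _ _).2
      ((hcop.map (mapRingHom (RatFunc.C : L →+* RatFunc L))).map (compRingHom (opMul L))))
    ((RatFunc.monic_denom _).map c.φ) hm
    (by
      simp only [coe_mapRingHom, coe_compRingHom]
      rw [mul_left_comm, c.cocycle f, ← mul_assoc])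
  have hz : ∀ (i : ℕ), (RatFunc.X : RatFunc L) ^ ((i : ℤ) - m) = s * RatFunc.X ^ i := fun i => by
    rw [zpow_sub₀ hT, zpow_natCast, zpow_natCast, div_eq_mul_inv, mul_comm]
  refine ⟨fun i => ?_, fun i => ?_⟩
  · have := congrArg (fun p => p.coeff i) e1
    simp only [coe_mapRingHom, coe_compRingHom, coeff_map, coeff_C_mul, comp_C_mul_X_coeff] at this
    rw [this, hz]
    ring
  · have := congrArg (fun p => p.coeff i) e2
    simp only [coe_mapRingHom, coe_compRingHom, coeff_map, coeff_C_mul, comp_C_mul_X_coeff] at this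
    rw [this, hz]
    ring

theorem exists_adjoin_mul (hne : ∃ f, c.φ f ≠ RatFunc.C f) :
    ∃ x : L, Transcendental c.inv x ∧ ∀ f, f ∈ IntermediateField.adjoin k ((c.inv : Set L) ∪ {x}) := by
  have hT : (RatFunc.X : RatFunc L) ≠ 0 := RatFunc.X_ne_zero
  let H : AddSubgroup ℤ :=
    { carrier := {n | ∃ a : L, a ≠ 0 ∧ c.φ a = RatFunc.C a * RatFunc.X ^ n}
      zero_mem' := ⟨1, one_ne_zero, by simp⟩
      add_mem' := by
        rintro n n' ⟨a, ha, ea⟩ ⟨b, hb, eb⟩
        exact ⟨a * b, mul_ne_zero ha hb, by rw [map_mul, map_mul, ea, eb, zpow_add₀ hT]; ring⟩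
      neg_mem' := by
        rintro n ⟨a, ha, ea⟩
        exact ⟨a⁻¹, inv_ne_zero ha, by rw [map_inv₀, map_inv₀, ea, zpow_neg, mul_inv]⟩ }
  obtain ⟨d₀, hd₀⟩ := Int.subgroup_cyclic H
  let d : ℕ := d₀.natAbs
  have hH : ∀ {n : ℤ}, n ∈ H ↔ ∃ z : ℤ, n = z * d := by
    intro n
    rw [hd₀, AddSubgroup.mem_closure_singleton]
    rcases Int.natAbs_eq d₀ with h | h
    · exact ⟨fun ⟨z, hz⟩ => ⟨z, by rw [← hz, smul_eq_mul]; congr 1⟩,
        fun ⟨z, hz⟩ => ⟨z, by rw [hz, smul_eq_mul]; congr 1⟩⟩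
    · exact ⟨fun ⟨z, hz⟩ => ⟨-z, by rw [← hz, smul_eq_mul, h]; ring⟩,
        fun ⟨z, hz⟩ => ⟨-z, by rw [hz, smul_eq_mul, h]; ring⟩⟩
  obtain ⟨x, hx0, hx⟩ : (d : ℤ) ∈ H := hH.2 ⟨1, (one_mul _).symm⟩
  have hd : 0 < d := by
    by_contra h
    obtain ⟨f, hf⟩ := hne
    apply hf
    have hall : ∀ (a : L) (n : ℤ), c.φ a = RatFunc.C a * RatFunc.X ^ n → a ∈ c.inv := fun a n ha => by
      rcases eq_or_ne a 0 with rfl | ha0
      · exact zero_mem _
      obtain ⟨z, hz⟩ := hH.1 ⟨a, ha0, ha⟩
      rw [c.mem_inv, ha, hz, Nat.eq_zero_of_not_pos h]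
      simp
    exact c.mem_inv.1 (c.mem_of_coeffs (one_mem _) f (fun i => hall _ _ ((map_coeff_mul c f).1 i))
      fun i => hall _ _ ((map_coeff_mul c f).2 i))
  have hx' : c.φ x = algebraMap _ _ (Polynomial.C x * X ^ d) := by
    rw [hx, zpow_natCast, map_mul, map_pow, RatFunc.algebraMap_C, RatFunc.algebraMap_X]
  refine ⟨x, c.transcendental_of_eq hx' (by rw [natDegree_C_mul_X_pow d x hx0]; exact hd), ?_⟩
  let K := IntermediateField.adjoin k ((c.inv : Set L) ∪ {x})
  have hall : ∀ (a : L) (n : ℤ), c.φ a = RatFunc.C a * RatFunc.X ^ n → a ∈ K := fun a n ha => by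
    rcases eq_or_ne a 0 with rfl | ha0
    · exact zero_mem _
    obtain ⟨z, hz⟩ := hH.1 ⟨a, ha0, ha⟩
    have hmem : a / x ^ z ∈ c.inv := by
      rw [c.mem_inv, map_div₀, map_zpow₀, map_div₀, map_zpow₀, ha, hx, hz, mul_zpow, ← zpow_mul,
        mul_comm (d : ℤ) z, mul_div_mul_right _ _ (zpow_ne_zero _ hT)]
    have h1 : a / x ^ z ∈ K := IntermediateField.subset_adjoin k _ (Or.inl hmem)
    have h2 : x ∈ K := IntermediateField.subset_adjoin k _ (Or.inr rfl)
    simpa [div_mul_cancel₀ _ (zpow_ne_zero z hx0)] using mul_mem h1 (zpow_mem h2 z)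
  intro f
  exact c.mem_of_coeffs (one_mem _) f (fun i => hall _ _ ((map_coeff_mul c f).1 i))
    fun i => hall _ _ ((map_coeff_mul c f).2 i)

end Mul

end Groth.L15.GaGmField

end
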