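import Groth.Agent.L15.GaGmField.Field
import Groth.Agent.L15.GaLaw.Sch
import Groth.Prelude.Def_Red2
import Mathlib.RingTheory.Localization.AtPrime.Basic
import Mathlib.RingTheory.Localization.Away.Basic
import Mathlib.AlgebraicGeometry.Morphisms.Separated
import Mathlib.AlgebraicGeometry.Gluing

/-! The rational coaction on the function field attached to an action of a one-parameter group. -/

set_option autoImplicit false
set_option backward.isDefEq.respectTransparency.types false

universe u

open CategoryTheory MonoidalCategory CartesianMonoidalCategory MonObj GrpObj AlgebraicGeometry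
open Groth.L15.GaLaw (U Um)

noncomputable section

namespace Groth.L15.GaGmField

variable {k : Type u} [Field k]

theorem Um_comp {R R' R'' : Type u} [CommRing R] [Algebra k R] [CommRing R'] [Algebra k R']
    [CommRing R''] [Algebra k R''] (f : R →ₐ[k] R') (g : R' →ₐ[k] R'') :
    Um g ≫ Um f = Um (g.comp f) := by
  ext1
  exact (Spec.map_comp _ _).symm

theorem Um_injective {R R' : Type u} [CommRing R] [Algebra k R] [CommRing R'] [Algebra k R']
    {f g : R →ₐ[k] R'} (h : Um f = Um g) : f = g :=
  AlgHom.coe_ringHom_injective (CommRingCat.hom_ext_iff.1 (Spec.map_injective (congrArg CommaMorphism.left h)))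

/-- A group whose points are the `v` with `M(v)` invertible, multiplied by `op`. -/
structure Pts (G : Over (Spec (CommRingCat.of k))) [GrpObj G] (M : Polynomial k) (c₀ : k)
    (op : ∀ (R : Type u) [CommRing R], R → R → R) where
  pt : ∀ (R : Type u) [CommRing R] [Algebra k R] (v : R), IsUnit (Polynomial.aeval v M) → (U (k := k) R ⟶ G)
  natural : ∀ {R R' : Type u} [CommRing R] [Algebra k R] [CommRing R'] [Algebra k R'] (f : R →ₐ[k] R')
    (v : R) (hv : IsUnit (Polynomial.aeval v M)) (hv' : IsUnit (Polynomial.aeval (f v) M)),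
    Um f ≫ pt R v hv = pt R' (f v) hv'
  mul : ∀ {R : Type u} [CommRing R] [Algebra k R] (v w : R) (hv : IsUnit (Polynomial.aeval v M))
    (hw : IsUnit (Polynomial.aeval w M)) (h : IsUnit (Polynomial.aeval (op R v w) M)),
    pt R v hv * pt R w hw = pt R (op R v w) h
  ne : M.eval c₀ ≠ 0
  one : ∀ (h : IsUnit (Polynomial.aeval c₀ M)), pt k c₀ h = 1
  surj : ∀ (R : Type u) [CommRing R] [Algebra k R] (t : U (k := k) R ⟶ G),
    ∃ (v : R) (h : IsUnit (Polynomial.aeval v M)), pt R v h = t

section

variable {G X : Over (Spec (CommRingCat.of k))} [GrpObj G] (a : AlgGrp.Action G X)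

theorem act_one {T : Over (Spec (CommRingCat.of k))} (x : T ⟶ X) : lift (1 : T ⟶ G) x ≫ a.act = x := by
  have := congrArg (lift (toUnit T) x ≫ ·) a.one_act
  rw [lift_leftUnitor_hom, ← Category.assoc, lift_whiskerRight] at this
  exact this

theorem act_mul {T : Over (Spec (CommRingCat.of k))} (g h : T ⟶ G) (x : T ⟶ X) :
    lift (g * h) x ≫ a.act = lift g (lift h x ≫ a.act) ≫ a.act := by
  have := congrArg (lift (lift g h) x ≫ ·) a.mul_act
  rw [lift_lift_associator_hom_assoc, ← Category.assoc, lift_whiskerRight,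
    ← Category.assoc (lift g _), lift_whiskerLeft, ← Hom.mul_def] at this
  exact this

end

variable {L : Type u} [Field L] [Algebra k L]

/-- An affine chart at the generic point `gp`. -/
structure Chart {X : Over (Spec (CommRingCat.of k))} (gp : U (k := k) L ⟶ X) where
  A : Type u
  [commRing : CommRing A]
  [algebra : Algebra k A]
  incl : A →ₐ[k] L
  inj : Function.Injective incl
  frac : ∀ y : L, ∃ p q : A, incl q ≠ 0 ∧ y * incl q = incl p
  j : U (k := k) A ⟶ X
  isOpenImmersion : IsOpenImmersion j.left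
  comp : Um incl ≫ j = gp

attribute [instance] Chart.commRing Chart.algebra

open Polynomial in
theorem exists_core {G X : Over (Spec (CommRingCat.of k))} [GrpObj G] [IsSeparated X.hom]
    {M : Polynomial k} {c₀ : k} {op : ∀ (R : Type u) [CommRing R], R → R → R} (P : Pts G M c₀ op)
    (a : AlgGrp.Action G X) (gp : U (k := k) L ⟶ X) (C₀ : Chart gp)
    (hcover : ∀ y : X.left, ∃ C : Chart gp, y ∈ Set.range C.j.left)
    (uu : Polynomial (RatFunc L)) (huu : uu.natDegree = 1)
    (hop : op (RatFunc (RatFunc L)) (algebraMap _ _ (Polynomial.X : Polynomial (RatFunc L)))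
      (RatFunc.C (RatFunc.X : RatFunc L)) = algebraMap _ _ uu)
    (hne : a.act ≠ snd G X) :
    ∃ c : Core k L (algebraMap k L c₀) uu, ∃ f, c.φ f ≠ RatFunc.C f := by
  classical
  set cL : L := algebraMap k L c₀
  let p₀ : Ideal L[X] := RingHom.ker (evalRingHom cL)
  have hp₀ : p₀.IsPrime := RingHom.ker_isPrime _
  let R₀ : Type u := Localization.AtPrime p₀
  have hmem : ∀ q : p₀.primeCompl, (q : L[X]).eval cL ≠ 0 := fun q => q.2
  have hM0 : M ≠ 0 := fun h => P.ne (by simp [h])
  -- evaluation at the unit, and inclusion into rational functions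
  let ev : R₀ →ₐ[k] L := IsLocalization.liftAlgHom (M := p₀.primeCompl)
    (f := ((aeval cL).restrictScalars k : L[X] →ₐ[k] L)) fun q => isUnit_iff_ne_zero.2 (by
      simpa using hmem q)
  let io : R₀ →ₐ[k] RatFunc L := IsLocalization.liftAlgHom (M := p₀.primeCompl)
    (f := IsScalarTower.toAlgHom k L[X] (RatFunc L)) fun q => isUnit_iff_ne_zero.2
      ((map_ne_zero_iff _ (RatFunc.algebraMap_injective L)).2 fun h => hmem q (by rw [h, eval_zero]))
  have hev : ∀ q : L[X], ev (algebraMap L[X] R₀ q) = q.eval cL := fun q => by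
    simp only [ev, IsLocalization.coe_liftAlgHom, IsLocalization.lift_eq]
    simp
  have hι : ∀ q : L[X], io (algebraMap L[X] R₀ q) = algebraMap L[X] (RatFunc L) q := fun q =>
    IsLocalization.lift_eq _ q
  let v₀ : R₀ := algebraMap L[X] R₀ Polynomial.X
  let const : L →ₐ[k] R₀ :=
    { (algebraMap L[X] R₀).comp Polynomial.C with
      commutes' := fun r => by
        show algebraMap L[X] R₀ (Polynomial.C (algebraMap k L r)) = _
        rw [IsScalarTower.algebraMap_apply k L[X] R₀]
        rfl }
  have hv₀ : IsUnit (aeval v₀ M) := by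
    have e : aeval v₀ M = algebraMap L[X] R₀ (M.map (algebraMap k L)) := by
      rw [show v₀ = IsScalarTower.toAlgHom k L[X] R₀ Polynomial.X from rfl, aeval_algHom_apply]
      refine congrArg (algebraMap L[X] R₀) ?_
      rw [← aeval_map_algebraMap L, aeval_X_left_apply]
    rw [e]
    refine IsLocalization.map_units R₀ (⟨_, ?_⟩ : p₀.primeCompl)
    show (M.map (algebraMap k L)).eval cL ≠ 0
    rw [eval_map, eval₂_at_apply]
    exact (map_ne_zero (algebraMap k L)).2 P.ne
  -- translate the generic point by the universal element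
  let Q₀ : U (k := k) R₀ ⟶ X := lift (P.pt R₀ v₀ hv₀) (Um const ≫ gp) ≫ a.act
  have hQ₀ : Um ev ≫ Q₀ = gp := by
    have hu : IsUnit (aeval c₀ M) := by
      rw [coe_aeval_eq_eval]; exact isUnit_iff_ne_zero.2 P.ne
    have hev0 : ev v₀ = Algebra.ofId k L c₀ := by
      rw [hev, eval_X]; rfl
    have hu' : IsUnit (aeval (Algebra.ofId k L c₀) M) := by
      rw [aeval_algHom_apply]; exact hu.map _
    have hu'' : IsUnit (aeval (ev v₀) M) := by rw [hev0]; exact hu'
    have h1 : Um ev ≫ P.pt R₀ v₀ hv₀ = 1 := by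
      rw [P.natural ev v₀ hv₀ hu'']
      simp only [hev0]
      rw [← P.natural (Algebra.ofId k L) c₀ hu hu', P.one, MonObj.comp_one]
    have h2 : Um ev ≫ Um const ≫ gp = gp := by
      have : ev.comp const = AlgHom.id k L := AlgHom.ext fun l => by
        show ev (algebraMap L[X] R₀ (Polynomial.C l)) = l
        rw [hev, eval_C]
      rw [← Category.assoc, Um_comp, this]
      have : Um (AlgHom.id k L) = 𝟙 (U (k := k) L) := by ext1; exact Spec.map_id _
      rw [this, Category.id_comp]
    show Um ev ≫ lift _ _ ≫ a.act = gp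
    rw [comp_lift_assoc, h1, h2, act_one]
  haveI := C₀.isOpenImmersion
  have hrange : Set.range Q₀.left ⊆ Set.range C₀.j.left := by
    rintro _ ⟨z, rfl⟩
    have hcl : Q₀.left (IsLocalRing.closedPoint R₀) ∈ C₀.j.left.opensRange := by
      have hsurj : Function.Surjective ev := fun l =>
        ⟨algebraMap L[X] R₀ (Polynomial.C l), by rw [hev, eval_C]⟩
      have : IsLocalHom ev.toRingHom := Function.Surjective.isLocalHom ev.toRingHom hsurj
      have e1 : Spec.map (CommRingCat.ofHom ev.toRingHom) (IsLocalRing.closedPoint L) =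
          IsLocalRing.closedPoint R₀ := IsLocalRing.comap_closedPoint (S := L) ev.toRingHom
      refine ⟨(Um C₀.incl).left (IsLocalRing.closedPoint L), ?_⟩
      have h := congrArg (fun t : U (k := k) L ⟶ X => t.left) (C₀.comp.trans hQ₀.symm)
      have h' := congrArg (fun t : (U (k := k) L).left ⟶ X.left => t (IsLocalRing.closedPoint L)) h
      exact h'.trans (congrArg Q₀.left e1)
    exact (IsLocalRing.specializes_closedPoint z).mem_open
      (Q₀.left ⁻¹ᵁ C₀.j.left.opensRange).2 hcl
  let w : Spec (CommRingCat.of R₀) ⟶ Spec (CommRingCat.of C₀.A) :=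
    IsOpenImmersion.lift C₀.j.left Q₀.left hrange
  have hw : w ≫ C₀.j.left = Q₀.left := IsOpenImmersion.lift_fac _ _ _
  let ψ : C₀.A →ₐ[k] R₀ :=
    { (Spec.preimage w).hom with
      commutes' := fun r => by
        have h := Over.w Q₀
        rw [← hw, Category.assoc, Over.w C₀.j] at h
        change w ≫ Spec.map _ = Spec.map _ at h
        rw [← Spec.map_preimage w, ← Spec.map_comp] at h
        exact RingHom.congr_fun (congrArg CommRingCat.Hom.hom (Spec.map_injective h)) r }
  have hψ : Um ψ ≫ C₀.j = Q₀ := by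
    ext1
    show Spec.map (CommRingCat.ofHom (Spec.preimage w).hom) ≫ C₀.j.left = Q₀.left
    rw [CommRingCat.ofHom_hom, Spec.map_preimage, hw]
  haveI : Mono C₀.j.left := inferInstance
  haveI : Mono C₀.j := Over.mono_of_mono_left C₀.j
  have hψev : ev.comp ψ = C₀.incl := Um_injective ((cancel_mono C₀.j).1 (by
    rw [← Um_comp, Category.assoc, hψ, hQ₀, C₀.comp]))
  have hψinj : Function.Injective (io.comp ψ) := by
    intro x y e
    refine C₀.inj ?_
    rw [← hψev]
    have hιinj : Function.Injective io := by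
      refine (IsLocalization.lift_injective_iff (S := R₀) (g := algebraMap L[X] (RatFunc L)) _).2
        fun p q => ⟨fun h => ?_, fun h => ?_⟩
      · simpa only [hι] using congrArg io h
      · rw [RatFunc.algebraMap_injective L h]
    exact congrArg ev (hιinj e)
  -- extend to the field
  letI : Algebra C₀.A L := C₀.incl.toRingHom.toAlgebra
  haveI : IsScalarTower k C₀.A L := IsScalarTower.of_algebraMap_eq fun r => (C₀.incl.commutes r).symm
  haveI : IsDomain C₀.A := C₀.inj.isDomain C₀.incl.toRingHom
  haveI : FaithfulSMul C₀.A L := (faithfulSMul_iff_algebraMap_injective _ _).2 C₀.inj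
  haveI : IsFractionRing C₀.A L := IsFractionRing.of_field C₀.A L fun y => by
    obtain ⟨p, q, hq, e⟩ := C₀.frac y
    exact ⟨p, q, eq_div_of_mul_eq hq e⟩
  let φ : L →ₐ[k] RatFunc L := IsFractionRing.liftAlgHom hψinj
  have hφ : ∀ x, φ (C₀.incl x) = io (ψ x) := fun x =>
    IsFractionRing.lift_algebraMap hψinj x
  have hbase : ∀ r : k, φ (algebraMap k L r) = RatFunc.C (algebraMap k L r) := fun r => by
    rw [AlgHom.commutes, IsScalarTower.algebraMap_apply k L[X] (RatFunc L),
      IsScalarTower.algebraMap_apply k L L[X], Polynomial.algebraMap_eq, RatFunc.algebraMap_C]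
  have hnum : ∀ f, (φ f).denom.eval cL ≠ 0 ∧ (φ f).num.eval cL / (φ f).denom.eval cL = f := by
    intro f
    obtain ⟨x, y, hy, e⟩ := C₀.frac f
    obtain ⟨⟨nx, dx⟩, hx⟩ := IsLocalization.surj p₀.primeCompl (ψ x)
    obtain ⟨⟨ny, dy⟩, hy'⟩ := IsLocalization.surj p₀.primeCompl (ψ y)
    have e1 : C₀.incl x * (dx : L[X]).eval cL = nx.eval cL := by
      have := congrArg ev hx
      rw [map_mul, hev, hev] at this
      rwa [show ev (ψ x) = C₀.incl x from AlgHom.congr_fun hψev x] at this
    have e2 : C₀.incl y * (dy : L[X]).eval cL = ny.eval cL := by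
      have := congrArg ev hy'
      rw [map_mul, hev, hev] at this
      rwa [show ev (ψ y) = C₀.incl y from AlgHom.congr_fun hψev y] at this
    have hny : ny.eval cL ≠ 0 := e2 ▸ mul_ne_zero hy (hmem dy)
    have f1 := congrArg io hx
    have f2 := congrArg io hy'
    rw [map_mul, hι, hι] at f1 f2
    have f0 := congrArg φ e
    rw [map_mul, hφ, hφ] at f0
    have key : φ f * algebraMap L[X] (RatFunc L) (ny * dx) =
        algebraMap L[X] (RatFunc L) (nx * dy) := by
      rw [map_mul, map_mul, ← f1, ← f2, ← f0]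
      ring
    have hq0 : (ny * dx : L[X]).eval cL ≠ 0 := by rw [eval_mul]; exact mul_ne_zero hny (hmem dx)
    have hq : (ny * dx : L[X]) ≠ 0 := fun h => hq0 (by rw [h, eval_zero])
    obtain ⟨g, hg⟩ := (RatFunc.denom_dvd hq).2 ⟨nx * dy,
      eq_div_of_mul_eq ((map_ne_zero_iff _ (RatFunc.algebraMap_injective L)).2 hq) key⟩
    have hd : (φ f).denom.eval cL ≠ 0 := fun h => hq0 (by rw [hg, eval_mul, h, zero_mul])
    refine ⟨hd, ?_⟩
    have key2 : (φ f).num * (ny * dx) = (nx * dy) * (φ f).denom := by
      refine RatFunc.algebraMap_injective L ?_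
      conv_lhs => rw [map_mul]
      conv_rhs => rw [map_mul, ← key]
      have := RatFunc.num_div_denom (φ f)
      rw [div_eq_iff ((map_ne_zero_iff _ (RatFunc.algebraMap_injective L)).2 (RatFunc.denom_ne_zero _))] at this
      rw [this]
      ring
    have k3 := congrArg (eval cL) key2
    simp only [eval_mul] at k3
    rw [div_eq_iff hd]
    refine mul_right_cancel₀ hq0 ?_
    rw [eval_mul, k3, ← e1, ← e2, ← e]
    ring
  -- the cocycle
  have hcoc : ∀ f, (φ f).num.map φ.toRingHom * ((φ f).denom.map RatFunc.C).comp uu =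
      ((φ f).num.map RatFunc.C).comp uu * (φ f).denom.map φ.toRingHom := by
    let K₂ : Type u := RatFunc (RatFunc L)
    let am : (RatFunc L)[X] →+* K₂ := algebraMap _ _
    have ham : Function.Injective am := RatFunc.algebraMap_injective _
    let θ₁ : RatFunc L →ₐ[k] K₂ :=
      { (RatFunc.C : RatFunc L →+* K₂) with
        commutes' := fun r => by
          show RatFunc.C (algebraMap k (RatFunc L) r) = algebraMap k K₂ r
          rw [IsScalarTower.algebraMap_apply k (RatFunc L)[X] K₂,
            IsScalarTower.algebraMap_apply k (RatFunc L) (RatFunc L)[X], Polynomial.algebraMap_eq,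
            RatFunc.algebraMap_C] }
    have liftP : ∀ (g : L[X] →+* (RatFunc L)[X]) (hg : Function.Injective g)
        (_ : ∀ r : k, g (Polynomial.C (algebraMap k L r)) = Polynomial.C (algebraMap k (RatFunc L) r)),
        ∃ θ : RatFunc L →ₐ[k] K₂, ∀ q, θ (algebraMap L[X] (RatFunc L) q) = am (g q) := by
      intro g hg hk
      have hz : (nonZeroDivisors L[X]) ≤ (nonZeroDivisors K₂).comap (am.comp g) :=
        nonZeroDivisors_le_comap_nonZeroDivisors_of_injective _ (ham.comp hg)
      refine ⟨{ RatFunc.liftRingHom (am.comp g) hz with commutes' := fun r => ?_ }, fun q => ?_⟩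
      · show RatFunc.liftRingHom (am.comp g) hz (algebraMap k (RatFunc L) r) = algebraMap k K₂ r
        rw [IsScalarTower.algebraMap_apply k L[X] (RatFunc L), RatFunc.liftRingHom_algebraMap,
          IsScalarTower.algebraMap_apply k L L[X], Polynomial.algebraMap_eq, RingHom.comp_apply, hk,
          IsScalarTower.algebraMap_apply k (RatFunc L)[X] K₂,
          IsScalarTower.algebraMap_apply k (RatFunc L) (RatFunc L)[X], Polynomial.algebraMap_eq]
      · exact RatFunc.liftRingHom_algebraMap (am.comp g) hz q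
    obtain ⟨θ₂, hθ₂⟩ := liftP (mapRingHom φ.toRingHom)
      (map_injective _ φ.toRingHom.injective) (fun r => by simp)
    obtain ⟨θ₃, hθ₃⟩ := liftP ((compRingHom uu).comp (mapRingHom RatFunc.C))
      (by
        refine (injective_iff_map_eq_zero _).2 fun q hq => ?_
        simp only [RingHom.comp_apply, coe_mapRingHom, coe_compRingHom, comp_eq_zero_iff] at hq
        rcases hq with hq | ⟨-, hq⟩
        · exact (Polynomial.map_eq_zero_iff (RatFunc.C : L →+* RatFunc L).injective).1 hq
        · rw [hq, natDegree_C] at huu; exact absurd huu zero_ne_one)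
      (fun r => by
        simp only [RingHom.comp_apply, coe_mapRingHom, coe_compRingHom, map_C, C_comp]
        rw [IsScalarTower.algebraMap_apply k L[X] (RatFunc L), IsScalarTower.algebraMap_apply k L L[X],
          Polynomial.algebraMap_eq, RatFunc.algebraMap_C])
    have main : ∀ θ : RatFunc L →ₐ[k] K₂, ∀ (t : K₂) (ht : IsUnit (aeval t M)) (P' : U (k := k) K₂ ⟶ X),
        θ RatFunc.X = t → Um ((θ.comp io).comp const) ≫ gp = P' →
        lift (P.pt K₂ t ht) P' ≫ a.act = Um ((θ.comp io).comp ψ) ≫ C₀.j := by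
      rintro θ t ht P' rfl rfl
      have e : (θ.comp io) v₀ = θ RatFunc.X := by
        show θ (io _) = _
        rw [hι, RatFunc.algebraMap_X]
      rw [← Um_comp ψ (θ.comp io), Category.assoc, hψ]
      show _ = Um (θ.comp io) ≫ lift _ _ ≫ a.act
      rw [comp_lift_assoc, P.natural (θ.comp io) v₀ hv₀ (e.symm ▸ ht), ← Category.assoc, Um_comp]
      simp only [e]
    have hconst : ∀ (θ : RatFunc L →ₐ[k] K₂) (l : L), ((θ.comp io).comp const) l = θ (RatFunc.C l) := by
      intro θ l
      show θ (io (algebraMap L[X] R₀ (Polynomial.C l))) = _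
      rw [hι, RatFunc.algebraMap_C]
    have hM : ∀ (θ : RatFunc L →ₐ[k] K₂), IsUnit (aeval (θ RatFunc.X) M) := fun θ => by
      rw [aeval_algHom_apply]
      refine (IsUnit.map _ (isUnit_iff_ne_zero.2 ?_))
      have := (hv₀.map io)
      rw [← aeval_algHom_apply, show io v₀ = RatFunc.X by rw [hι, RatFunc.algebraMap_X]] at this
      exact this.ne_zero
    have t₂ : θ₂ RatFunc.X = algebraMap _ _ (Polynomial.X : (RatFunc L)[X]) := by
      rw [← RatFunc.algebraMap_X, hθ₂, coe_mapRingHom, map_X]
    have t₃ : θ₃ RatFunc.X = algebraMap _ _ uu := by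
      rw [← RatFunc.algebraMap_X, hθ₃]
      simp [am]
    have c₃ : (θ₃.comp io).comp const = (θ₁.comp io).comp const := by
      ext l
      rw [hconst, hconst, ← RatFunc.algebraMap_C, hθ₃]
      simp only [RingHom.comp_apply, coe_mapRingHom, coe_compRingHom, map_C, C_comp, am]
      exact RatFunc.algebraMap_C _
    have c₂ : Um ((θ₂.comp io).comp const) ≫ gp = Um ((θ₁.comp io).comp ψ) ≫ C₀.j := by
      refine (congrArg (Um ((θ₂.comp io).comp const) ≫ ·) C₀.comp.symm).trans ?_
      rw [← Category.assoc, Um_comp]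
      congr 2
      ext x
      show ((θ₂.comp io).comp const) (C₀.incl x) = _
      rw [hconst, ← RatFunc.algebraMap_C, hθ₂, coe_mapRingHom, map_C]
      show am (Polynomial.C (φ (C₀.incl x))) = RatFunc.C (io (ψ x))
      rw [hφ]
      exact RatFunc.algebraMap_C _
    have e₁ := main θ₁ _ (hM θ₁) _ rfl rfl
    have e₂ := main θ₂ _ (hM θ₂) _ rfl c₂
    have e₃ := main θ₃ _ (hM θ₃) _ rfl (congrArg (fun h => Um h ≫ gp) c₃)
    rw [← e₁, ← act_mul] at e₂
    have hu : op K₂ (θ₂ RatFunc.X) (θ₁ RatFunc.X) = θ₃ RatFunc.X := by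
      rw [t₂, t₃]; exact hop
    rw [P.mul _ _ _ _ (hu.symm ▸ hM θ₃)] at e₂
    simp only [hu] at e₂
    have h23 : (θ₂.comp io).comp ψ = (θ₃.comp io).comp ψ :=
      Um_injective ((cancel_mono C₀.j).1 (e₂.symm.trans e₃))
    have h23' : θ₂.toRingHom.comp φ.toRingHom = θ₃.toRingHom.comp φ.toRingHom := by
      refine IsLocalization.ringHom_ext (nonZeroDivisors C₀.A) (RingHom.ext fun x => ?_)
      show θ₂ (φ (C₀.incl x)) = θ₃ (φ (C₀.incl x))
      rw [hφ]
      exact AlgHom.congr_fun h23 x
    intro f
    have h := RingHom.congr_fun h23' f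
    change θ₂ (φ f) = θ₃ (φ f) at h
    rw [← RatFunc.num_div_denom (φ f), map_div₀, map_div₀, hθ₂, hθ₂, hθ₃, hθ₃] at h
    have hd2 : ((φ f).denom.map φ.toRingHom) ≠ 0 :=
      (Polynomial.map_ne_zero_iff φ.toRingHom.injective).2 (RatFunc.denom_ne_zero _)
    have hd3 : ((φ f).denom.map (RatFunc.C : L →+* RatFunc L)).comp uu ≠ 0 := by
      intro h0
      rw [comp_eq_zero_iff] at h0
      rcases h0 with h0 | ⟨-, h0⟩
      · exact RatFunc.denom_ne_zero _ ((Polynomial.map_eq_zero_iff (RatFunc.C : L →+* RatFunc L).injective).1 h0)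
      · rw [h0, natDegree_C] at huu; exact absurd huu zero_ne_one
    simp only [RingHom.comp_apply, coe_mapRingHom, coe_compRingHom] at h
    rw [div_eq_div_iff ((map_ne_zero_iff _ ham).2 hd2) ((map_ne_zero_iff _ ham).2 hd3),
      ← map_mul, ← map_mul] at h
    exact ham h
  refine ⟨⟨φ.toRingHom, hbase, fun f => (hnum f).1, fun f => (hnum f).2, hcoc⟩, ?_⟩
  by_contra hall
  push Not at hall
  apply hne
  -- the action agrees with the projection at the generic point
  have hvT : IsUnit (aeval (RatFunc.X : RatFunc L) M) := by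
    have := (hv₀.map io)
    rwa [← aeval_algHom_apply, show io v₀ = RatFunc.X by rw [hι, RatFunc.algebraMap_X]] at this
  have hgen : lift (P.pt (RatFunc L) RatFunc.X hvT) (Um (io.comp const) ≫ gp) ≫ a.act =
      Um (io.comp const) ≫ gp := by
    have e : io v₀ = RatFunc.X := by rw [hι, RatFunc.algebraMap_X]
    have h1 : Um io ≫ Q₀ = lift (P.pt (RatFunc L) RatFunc.X hvT) (Um (io.comp const) ≫ gp) ≫ a.act := by
      show Um io ≫ lift _ _ ≫ a.act = _
      rw [comp_lift_assoc, P.natural io v₀ hv₀ (e.symm ▸ hvT), ← Category.assoc, Um_comp]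
      simp only [e]
    rw [← h1, ← hψ, ← Category.assoc, Um_comp]
    refine Eq.trans ?_ (congrArg (Um (io.comp const) ≫ ·) C₀.comp)
    rw [← Category.assoc, Um_comp]
    congr 2
    ext x
    show io (ψ x) = io (algebraMap L[X] R₀ (Polynomial.C (C₀.incl x)))
    rw [hι, RatFunc.algebraMap_C, ← hφ]
    exact hall _
  ext1
  refine Scheme.hom_ext_of_forall _ _ fun z => ?_
  obtain ⟨C, hC⟩ := hcover ((snd G X).left z)
  haveI := C.isOpenImmersion
  obtain ⟨W, hW, hzW, hWC⟩ := exists_isAffineOpen_mem_and_subset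
    (show z ∈ (snd G X).left ⁻¹ᵁ C.j.left.opensRange from hC)
  refine ⟨W, hzW, ?_⟩
  let R : Type u := Γ((G ⊗ X).left, W)
  letI : Algebra k R := (Spec.preimage (hW.fromSpec ≫ (G ⊗ X).hom)).hom.toAlgebra
  let jW : U (k := k) R ⟶ G ⊗ X := Over.homMk hW.fromSpec (by
    show _ = Spec.map _
    exact (Spec.map_preimage _).symm)
  have hWsnd : Set.range (jW ≫ snd G X).left ⊆ Set.range C.j.left := by
    rintro _ ⟨y, rfl⟩
    refine (hWC ?_ :)
    have hy : (jW.left y) ∈ Set.range hW.fromSpec := ⟨y, rfl⟩
    rw [hW.range_fromSpec] at hy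
    exact hy
  let wC : Spec (CommRingCat.of R) ⟶ Spec (CommRingCat.of C.A) :=
    IsOpenImmersion.lift C.j.left (jW ≫ snd G X).left hWsnd
  let β : C.A →ₐ[k] R :=
    { (Spec.preimage wC).hom with
      commutes' := fun r => by
        have h := Over.w (jW ≫ snd G X)
        rw [← IsOpenImmersion.lift_fac C.j.left (jW ≫ snd G X).left hWsnd, Category.assoc,
          Over.w C.j] at h
        change wC ≫ Spec.map _ = Spec.map _ at h
        rw [← Spec.map_preimage wC, ← Spec.map_comp] at h
        exact RingHom.congr_fun (congrArg CommRingCat.Hom.hom (Spec.map_injective h)) r }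
  have hβ : Um β ≫ C.j = jW ≫ snd G X := by
    ext1
    show Spec.map (CommRingCat.ofHom (Spec.preimage wC).hom) ≫ C.j.left = _
    rw [CommRingCat.ofHom_hom, Spec.map_preimage]
    exact IsOpenImmersion.lift_fac _ _ _
  obtain ⟨v, hv, hpv⟩ := P.surj R (jW ≫ fst G X)
  -- the universal chart
  haveI : IsDomain C.A := C.inj.isDomain C.incl.toRingHom
  let MA : C.A[X] := M.map (algebraMap k C.A)
  have hMA : MA ≠ 0 := (Polynomial.map_ne_zero_iff (algebraMap k C.A).injective).2 hM0
  let RB : Type u := Localization.Away MA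
  let T : RB := algebraMap C.A[X] RB Polynomial.X
  have hT : IsUnit (aeval T M) := by
    have e : aeval T M = algebraMap C.A[X] RB MA := by
      rw [show T = IsScalarTower.toAlgHom k C.A[X] RB Polynomial.X from rfl, aeval_algHom_apply,
        ← aeval_map_algebraMap C.A, aeval_X_left_apply]
      rfl
    rw [e]
    exact IsLocalization.Away.algebraMap_isUnit MA
  let cA : C.A →ₐ[k] RB := IsScalarTower.toAlgHom k C.A RB
  let evA : ∀ {S : Type u} [CommRing S] [Algebra k S] (g : C.A →ₐ[k] S) (s : S), C.A[X] →ₐ[k] S :=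
    fun g s =>
      { eval₂RingHom g.toRingHom s with
        commutes' := fun r => (eval₂_C _ _).trans (g.commutes r) }
  have hevA : ∀ {S : Type u} [CommRing S] [Algebra k S] (g : C.A →ₐ[k] S) (s : S),
      evA g s MA = aeval s M := fun g s => by
    show eval₂ g.toRingHom s MA = _
    rw [eval₂_map, aeval_def]
    congr 1
    exact g.comp_algebraMap
  have huB : ∀ {S : Type u} [CommRing S] [Algebra k S] (g : C.A →ₐ[k] S) (s : S),
      IsUnit (aeval s M) → ∀ y : Submonoid.powers MA, IsUnit (evA g s y) := by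
    rintro S _ _ g s hs ⟨_, n, rfl⟩
    show IsUnit (evA g s (MA ^ n))
    rw [map_pow, hevA]
    exact hs.pow n
  have key : lift (P.pt RB T hT) (Um cA ≫ C.j) ≫ a.act = Um cA ≫ C.j := by
    let ω : RB →ₐ[k] RatFunc L := IsLocalization.liftAlgHom (M := Submonoid.powers MA)
      (huB ((io.comp const).comp C.incl) RatFunc.X hvT)
    have hωT : ω T = RatFunc.X := by
      show IsLocalization.lift _ (algebraMap C.A[X] RB Polynomial.X) = _
      rw [IsLocalization.lift_eq]
      exact eval₂_X _ _
    have hωc : ω.comp cA = (io.comp const).comp C.incl := by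
      ext x
      show IsLocalization.lift _ (algebraMap C.A RB x) = _
      rw [IsScalarTower.algebraMap_apply C.A C.A[X] RB, IsLocalization.lift_eq]
      exact eval₂_C _ _
    have hωinj : Function.Injective ω := by
      have hg : Function.Injective (evA ((io.comp const).comp C.incl) RatFunc.X) := by
        have e : ∀ q, evA ((io.comp const).comp C.incl) RatFunc.X q =
            algebraMap L[X] (RatFunc L) (q.map C.incl.toRingHom) := by
          intro q
          show eval₂ _ _ q = _
          rw [← RatFunc.algebraMap_X, ← coe_mapRingHom, ← RingHom.comp_apply,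
            ← coe_eval₂RingHom]
          refine RingHom.congr_fun (Polynomial.ringHom_ext (fun x => ?_) ?_) q
          · rw [coe_eval₂RingHom, eval₂_C, RingHom.comp_apply, coe_mapRingHom, map_C]
            exact hι _
          · simp
        intro p q h
        rw [e, e] at h
        exact map_injective _ C.inj (RatFunc.algebraMap_injective L h)
      refine (IsLocalization.lift_injective_iff (S := RB) _).2 fun p q => ⟨fun h => ?_, fun h => ?_⟩
      · have := congrArg ω h
        simpa only [ω, IsLocalization.coe_liftAlgHom, IsLocalization.lift_eq] using this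
      · rw [hg h]
    have hT' : IsUnit (aeval (ω T) M) := by rw [hωT]; exact hvT
    have heq : Um ω ≫ lift (P.pt RB T hT) (Um cA ≫ C.j) ≫ a.act = Um ω ≫ Um cA ≫ C.j := by
      rw [comp_lift_assoc, P.natural ω T hT hT', ← Category.assoc (Um ω), Um_comp, hωc, ← Um_comp,
        Category.assoc, C.comp]
      simp only [hωT]
      exact hgen
    haveI : IsDominant (Um ω).left :=
      ⟨(PrimeSpectrum.denseRange_comap_iff_ker_le_nilRadical _).2
        (((RingHom.injective_iff_ker_eq_bot _).1 hωinj).trans_le bot_le)⟩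
    haveI : IsDomain RB := IsLocalization.isDomain_localization
      (Submonoid.powers_le.2 (mem_nonZeroDivisors_of_ne_zero hMA))
    haveI : AlgebraicGeometry.IsReduced (U (k := k) RB).left :=
      inferInstanceAs (AlgebraicGeometry.IsReduced (Spec (CommRingCat.of RB)))
    ext1
    exact ext_of_isDominant_of_isSeparated (s := X.hom)
      ((Over.w (lift (P.pt RB T hT) (Um cA ≫ C.j) ≫ a.act)).trans (Over.w (Um cA ≫ C.j)).symm)
      (Um ω).left (congrArg CommaMorphism.left heq)
  let χ : RB →ₐ[k] R := IsLocalization.liftAlgHom (M := Submonoid.powers MA) (huB β v hv)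
  have hχT : χ T = v := by
    show IsLocalization.lift _ (algebraMap C.A[X] RB Polynomial.X) = _
    rw [IsLocalization.lift_eq]
    exact eval₂_X _ _
  have hχc : χ.comp cA = β := by
    ext x
    show IsLocalization.lift _ (algebraMap C.A RB x) = _
    rw [IsScalarTower.algebraMap_apply C.A C.A[X] RB, IsLocalization.lift_eq]
    exact eval₂_C _ _
  have h : Um χ ≫ lift (P.pt RB T hT) (Um cA ≫ C.j) ≫ a.act = Um χ ≫ Um cA ≫ C.j :=
    congrArg (Um χ ≫ ·) key
  rw [comp_lift_assoc, P.natural χ T hT (hχT.symm ▸ hv), ← Category.assoc (Um χ), Um_comp, hχc,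
    hβ] at h
  simp only [hχT, hpv] at h
  rw [← comp_lift_assoc, lift_fst_snd, Category.id_comp] at h
  have h' : hW.fromSpec ≫ a.act.left = hW.fromSpec ≫ (snd G X).left := congrArg CommaMorphism.left h
  rw [← cancel_epi hW.isoSpec.inv, ← Category.assoc, ← Category.assoc, IsAffineOpen.isoSpec_inv_ι]
  exact h'

end Groth.L15.GaGmField

end
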