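import Mathlib.FieldTheory.IntermediateField.Adjoin.Basic
import Mathlib.RingTheory.Localization.Away.Basic
import Mathlib.RingTheory.AlgebraicIndependent.Transcendental
import Mathlib.RingTheory.FiniteType
import Mathlib.AlgebraicGeometry.AffineSpace
import Mathlib.AlgebraicGeometry.Morphisms.FiniteType
import Mathlib.AlgebraicGeometry.Properties
import Mathlib.CategoryTheory.Comma.Over.Basic

/-! Two finite type domains with the same function field have isomorphic basic opens; a variety with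
function field `F(x)` is birational to a line over a model of `F`. -/

set_option autoImplicit false
set_option backward.isDefEq.respectTransparency.types false

universe u

open CategoryTheory AlgebraicGeometry

noncomputable section

namespace Groth.L15.GaGmField

variable {k L : Type u} [Field k] [Field L] [Algebra k L]
variable {A A' : Type u} [CommRing A] [CommRing A'] [Algebra k A] [Algebra k A']

/-- The elements of `L` of the form `i x / (i a)ⁿ`. -/
def awayRange (i : A →ₐ[k] L) (a : A) : Subalgebra k L where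
  carrier := {y | ∃ n : ℕ, y * i a ^ n ∈ i.range}
  mul_mem' {y z} := fun ⟨n, hn⟩ ⟨m, hm⟩ => ⟨n + m, by
    rw [pow_add, mul_mul_mul_comm]; exact mul_mem hn hm⟩
  add_mem' {y z} := fun ⟨n, hn⟩ ⟨m, hm⟩ => ⟨n + m, by
    rw [add_mul]
    exact add_mem (by rw [pow_add, ← mul_assoc]; exact mul_mem hn (pow_mem (AlgHom.mem_range_self i a) m))
      (by rw [add_comm n, pow_add, ← mul_assoc]; exact mul_mem hm (pow_mem (AlgHom.mem_range_self i a) n))⟩
  algebraMap_mem' r := ⟨0, by rw [pow_zero, mul_one]; exact i.range.algebraMap_mem r⟩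

theorem mem_awayRange {i : A →ₐ[k] L} {a : A} {y : L} :
    y ∈ awayRange i a ↔ ∃ n : ℕ, y * i a ^ n ∈ i.range := Iff.rfl

theorem exists_denominator [Algebra.FiniteType k A'] (i : A →ₐ[k] L) (i' : A' →ₐ[k] L)
    (hi : ∀ y : L, ∃ p q : A, i q ≠ 0 ∧ y * i q = i p) :
    ∃ h : A, i h ≠ 0 ∧ ∀ z, i' z ∈ awayRange i h := by
  classical
  obtain ⟨T, hT⟩ := (Algebra.FiniteType.out : (⊤ : Subalgebra k A').FG)
  choose p q hq hpq using hi
  refine ⟨∏ t ∈ T, q (i' t), ?_, fun z => ?_⟩
  · rw [map_prod]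
    exact Finset.prod_ne_zero_iff.2 fun t _ => hq _
  · have : (⊤ : Subalgebra k A') ≤ (awayRange i (∏ t ∈ T, q (i' t))).comap i' := by
      rw [← hT, Algebra.adjoin_le_iff]
      intro t ht
      refine ⟨1, ⟨p (i' t) * ∏ s ∈ T.erase t, q (i' s), ?_⟩⟩
      show i _ = _
      rw [map_mul, pow_one, ← hpq (i' t), ← Finset.mul_prod_erase T _ ht, map_mul, mul_assoc]
      rfl
    exact this (Algebra.mem_top (x := z))

theorem le_awayRange {i : A →ₐ[k] L} {i' : A' →ₐ[k] L} {a : A} {a' : A'} (ha' : i' a' ≠ 0)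
    (h : ∀ z, i' z ∈ awayRange i a) (hinv : (i' a')⁻¹ ∈ awayRange i a) :
    awayRange i' a' ≤ awayRange i a := by
  rintro y ⟨n, z, hz⟩
  have hy : y = i' z * ((i' a')⁻¹) ^ n := by
    rw [show i' z = y * i' a' ^ n from hz, mul_assoc, ← mul_pow, mul_inv_cancel₀ ha', one_pow, mul_one]
  rw [hy]
  exact mul_mem (h z) (pow_mem hinv n)

theorem exists_awayRange_eq [Algebra.FiniteType k A] [Algebra.FiniteType k A']
    (i : A →ₐ[k] L) (i' : A' →ₐ[k] L) (hi : ∀ y : L, ∃ p q : A, i q ≠ 0 ∧ y * i q = i p)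
    (hi' : ∀ y : L, ∃ p q : A', i' q ≠ 0 ∧ y * i' q = i' p) :
    ∃ (a : A) (a' : A'), i a ≠ 0 ∧ i' a' ≠ 0 ∧ awayRange i a = awayRange i' a' := by
  obtain ⟨h, hh, hA'⟩ := exists_denominator i i' hi
  obtain ⟨h', hh', hA⟩ := exists_denominator i' i hi'
  obtain ⟨n, b, hb⟩ := hA' h'
  obtain ⟨m, b', hb'⟩ := hA h
  have hb : i b = i' h' * i h ^ n := hb
  have hb' : i' b' = i h * i' h' ^ m := hb'
  have hb0 : i b ≠ 0 := by rw [hb]; exact mul_ne_zero hh' (pow_ne_zero _ hh)
  have hb0' : i' b' ≠ 0 := by rw [hb']; exact mul_ne_zero hh (pow_ne_zero _ hh')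
  have ha : i (h * b) ≠ 0 := by rw [map_mul]; exact mul_ne_zero hh hb0
  have ha' : i' (h' * b') ≠ 0 := by rw [map_mul]; exact mul_ne_zero hh' hb0'
  refine ⟨h * b, h' * b', ha, ha', ?_⟩
  have sub : ∀ z, i' z ∈ awayRange i (h * b) := fun z => by
    obtain ⟨r, hr⟩ := hA' z
    exact ⟨r, by rw [map_mul, mul_pow, ← mul_assoc]; exact mul_mem hr (pow_mem (AlgHom.mem_range_self i b) r)⟩
  have sub' : ∀ z, i z ∈ awayRange i' (h' * b') := fun z => by
    obtain ⟨r, hr⟩ := hA z
    exact ⟨r, by rw [map_mul, mul_pow, ← mul_assoc]; exact mul_mem hr (pow_mem (AlgHom.mem_range_self i' b') r)⟩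
  have e1 : (i h)⁻¹ ∈ awayRange i (h * b) :=
    ⟨1, b, by rw [map_mul, pow_one, ← mul_assoc, inv_mul_cancel₀ hh, one_mul]; rfl⟩
  have e2 : (i' h')⁻¹ ∈ awayRange i (h * b) :=
    ⟨1, h ^ n * h, by
      show i _ = _
      rw [pow_one, map_mul, map_mul, map_pow, hb]
      field_simp⟩
  have e1' : (i' h')⁻¹ ∈ awayRange i' (h' * b') :=
    ⟨1, b', by rw [map_mul, pow_one, ← mul_assoc, inv_mul_cancel₀ hh', one_mul]; rfl⟩
  have e2' : (i h)⁻¹ ∈ awayRange i' (h' * b') :=
    ⟨1, h' ^ m * h', by
      show i' _ = _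
      rw [pow_one, map_mul, map_mul, map_pow, hb']
      field_simp⟩
  refine le_antisymm (le_awayRange ha sub' ?_) (le_awayRange ha' sub ?_)
  · rw [map_mul, mul_inv, hb, mul_inv, ← inv_pow]
    exact mul_mem e2' (mul_mem e1' (pow_mem e2' n))
  · rw [map_mul, mul_inv, hb', mul_inv, ← inv_pow]
    exact mul_mem e2 (mul_mem e1 (pow_mem e2 m))

theorem exists_awayEquiv (i : A →ₐ[k] L) (hi : Function.Injective i) {a : A} (ha : i a ≠ 0) :
    Nonempty (Localization.Away a ≃ₐ[k] awayRange i a) := by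
  have hu : ∀ y : Submonoid.powers a, IsUnit (i y) := by
    rintro ⟨_, n, rfl⟩
    exact isUnit_iff_ne_zero.2 (by rw [map_pow]; exact pow_ne_zero _ ha)
  let j : Localization.Away a →ₐ[k] L :=
    { IsLocalization.lift (M := Submonoid.powers a) (g := i.toRingHom) hu with
      commutes' := fun r => by
        show IsLocalization.lift hu (algebraMap k (Localization.Away a) r) = _
        rw [IsScalarTower.algebraMap_apply k A (Localization.Away a), IsLocalization.lift_eq]
        exact i.commutes r }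
  have hj : ∀ x : A, j (algebraMap A _ x) = i x := fun x => IsLocalization.lift_eq hu x
  have hinj : Function.Injective j := by
    refine (IsLocalization.lift_injective_iff (g := i.toRingHom) hu).2 fun x y => ⟨fun h => ?_, fun h => ?_⟩
    · have := congrArg j h
      rwa [hj, hj] at this
    · rw [hi h]
  refine ⟨(AlgEquiv.ofInjective j hinj).trans (Subalgebra.equivOfEq _ _ ?_)⟩
  ext y
  constructor
  · rintro ⟨z, rfl⟩
    obtain ⟨⟨x, ⟨_, n, rfl⟩⟩, hx⟩ := IsLocalization.surj (Submonoid.powers a) z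
    refine ⟨n, x, ?_⟩
    have := congrArg j hx
    rw [map_mul, hj, hj, map_pow] at this
    exact this.symm
  · rintro ⟨n, x, hx⟩
    refine ⟨IsLocalization.mk' _ x (⟨a ^ n, n, rfl⟩ : Submonoid.powers a), ?_⟩
    refine mul_right_cancel₀ (pow_ne_zero n ha) ?_
    have := congrArg j (IsLocalization.mk'_spec (Localization.Away a) x (⟨a ^ n, n, rfl⟩ : Submonoid.powers a))
    rw [map_mul, hj, hj, map_pow] at this
    exact this.trans hx

theorem exists_finset (c : IntermediateField k L) (x : L) (S : Finset L)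
    (hS : IntermediateField.adjoin k (S : Set L) = ⊤)
    (h : ∀ f, f ∈ IntermediateField.adjoin k ((c : Set L) ∪ {x})) :
    ∃ s : Finset L, (s : Set L) ⊆ c ∧ IntermediateField.adjoin k ((s : Set L) ∪ {x}) = ⊤ := by
  classical
  choose T hT hfT using fun f : L => IntermediateField.exists_finset_of_mem_adjoin (h f)
  refine ⟨(S.biUnion T).filter (· ∈ c), fun y hy => (Finset.mem_filter.1 hy).2, eq_top_iff.2 ?_⟩
  rw [← hS, IntermediateField.adjoin_le_iff]
  intro f hf
  refine IntermediateField.adjoin.mono k _ _ ?_ (hfT f)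
  intro y hy
  rcases hT f hy with hy' | hy'
  · exact Or.inl (Finset.mem_filter.2 ⟨Finset.mem_biUnion.2 ⟨f, hf, hy⟩, hy'⟩)
  · exact Or.inr hy'

/-- A scheme with an affine open having function field `L = c(x)` is birational to a line over a model of `c`. -/
theorem exists_line {X : Over (Spec (CommRingCat.of k))} [Algebra.FiniteType k A]
    (j : Spec (CommRingCat.of A) ⟶ X.left) [IsOpenImmersion j]
    (hj : j ≫ X.hom = Spec.map (CommRingCat.ofHom (algebraMap k A)))
    (i : A →ₐ[k] L) (hinj : Function.Injective i) (hi : ∀ y : L, ∃ p q : A, i q ≠ 0 ∧ y * i q = i p)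
    (c : IntermediateField k L) (x : L) (hx : Transcendental c x)
    (hgen : ∀ f, f ∈ IntermediateField.adjoin k ((c : Set L) ∪ {x})) :
    ∃ (Y : Over (Spec (CommRingCat.of k))) (_ : IsIntegral Y.left) (_ : LocallyOfFiniteType Y.hom)
      (U : X.left.Opens) (V : (𝔸(ULift.{u} (Fin 1); Y.left)).Opens), (U : Set X.left).Nonempty ∧
      Nonempty (Over.mk (U.ι ≫ X.hom) ≅
        Over.mk (V.ι ≫ (𝔸(ULift.{u} (Fin 1); Y.left) ↘ Y.left) ≫ Y.hom)) := by
  classical
  obtain ⟨TA, hTA⟩ := (Algebra.FiniteType.out : (⊤ : Subalgebra k A).FG)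
  have hS : IntermediateField.adjoin k ((TA.image i : Finset L) : Set L) = ⊤ := by
    refine eq_top_iff.2 fun y _ => ?_
    have hA : ∀ z, i z ∈ IntermediateField.adjoin k ((TA.image i : Finset L) : Set L) := fun z => by
      have : (⊤ : Subalgebra k A) ≤
          (IntermediateField.adjoin k ((TA.image i : Finset L) : Set L)).toSubalgebra.comap i := by
        rw [← hTA, Algebra.adjoin_le_iff]
        intro t ht
        exact IntermediateField.subset_adjoin k _ (Finset.mem_coe.2 (Finset.mem_image_of_mem i ht))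
      exact this (Algebra.mem_top (x := z))
    obtain ⟨p, q, hq, e⟩ := hi y
    rw [eq_div_of_mul_eq hq e]
    exact div_mem (hA p) (hA q)
  obtain ⟨s, hs, hs'⟩ := exists_finset c x _ hS hgen
  let C : Subalgebra k L := Algebra.adjoin k (s : Set L)
  have : Algebra.FiniteType k C := (Subalgebra.fg_iff_finiteType C).1 ⟨s, rfl⟩
  let P : Type u := MvPolynomial (ULift.{u} (Fin 1)) C
  let i' : P →ₐ[k] L := (MvPolynomial.aeval (R := C) fun _ => x).restrictScalars k
  have hC : C ≤ c.toSubalgebra := Algebra.adjoin_le hs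
  have hxC : Transcendental C x := by
    rintro ⟨p, hp0, hp⟩
    refine hx ⟨p.map (Subalgebra.inclusion hC).toRingHom,
      (Polynomial.map_ne_zero_iff (Subalgebra.inclusion_injective hC)).2 hp0, ?_⟩
    rw [Polynomial.aeval_def, Polynomial.eval₂_map]
    exact hp
  have hinj' : Function.Injective i' :=
    (algebraicIndependent_unique_type_iff (x := fun _ : ULift.{u} (Fin 1) => x)).2 hxC
  have hi' : ∀ y : L, ∃ p q : P, i' q ≠ 0 ∧ y * i' q = i' p := by
    intro y
    have hy : y ∈ IntermediateField.adjoin k ((s : Set L) ∪ {x}) := by rw [hs']; trivial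
    obtain ⟨a, ha, b, hb, rfl⟩ := IntermediateField.mem_adjoin_iff_div.1 hy
    have hr : ∀ z ∈ Algebra.adjoin k ((s : Set L) ∪ {x}), ∃ p, i' p = z := fun z hz => by
      have : Algebra.adjoin k ((s : Set L) ∪ {x}) ≤ i'.range := by
        refine Algebra.adjoin_le ?_
        rintro z (hz | rfl)
        · exact ⟨MvPolynomial.C ⟨z, Algebra.subset_adjoin hz⟩, MvPolynomial.aeval_C _ _⟩
        · exact ⟨MvPolynomial.X ⟨0⟩, MvPolynomial.aeval_X _ _⟩
      exact this hz
    obtain ⟨p, rfl⟩ := hr a ha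
    obtain ⟨q, rfl⟩ := hr b hb
    rcases eq_or_ne (i' q) 0 with hq | hq
    · exact ⟨0, 1, by simp, by simp [hq]⟩
    · exact ⟨p, q, hq, div_mul_cancel₀ _ hq⟩
  have : Algebra.FiniteType k P := Algebra.FiniteType.trans (S := C) inferInstance inferInstance
  obtain ⟨a, a', ha, ha', e⟩ := exists_awayRange_eq i i' hi hi'
  obtain ⟨e₁⟩ := exists_awayEquiv i hinj ha
  obtain ⟨e₂⟩ := exists_awayEquiv i' hinj' ha'
  let θ : Localization.Away a' ≃ₐ[k] Localization.Away a :=
    (e₂.trans (Subalgebra.equivOfEq _ _ e.symm)).trans e₁.symm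
  let R : CommRingCat.{u} := CommRingCat.of C
  let Y : Over (Spec (CommRingCat.of k)) := Over.mk (Spec.map (CommRingCat.ofHom (algebraMap k C)))
  have hY : LocallyOfFiniteType Y.hom := by
    show LocallyOfFiniteType (Spec.map (CommRingCat.ofHom (algebraMap k C)))
    rw [HasRingHomProperty.Spec_iff (P := @LocallyOfFiniteType)]
    exact RingHom.finiteType_algebraMap.2 inferInstance
  let uA : Spec (CommRingCat.of (Localization.Away a)) ⟶ X.left :=
    Spec.map (CommRingCat.ofHom (algebraMap A (Localization.Away a))) ≫ j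
  let g : Spec (CommRingCat.of (Localization.Away a')) ⟶ 𝔸(ULift.{u} (Fin 1); Spec R) :=
    Spec.map (CommRingCat.ofHom (algebraMap P (Localization.Away a'))) ≫
      (AffineSpace.SpecIso (ULift.{u} (Fin 1)) R).inv
  have : IsOpenImmersion (Spec.map (CommRingCat.ofHom (algebraMap A (Localization.Away a)))) :=
    IsOpenImmersion.of_isLocalization a
  have : IsOpenImmersion (Spec.map (CommRingCat.ofHom (algebraMap P (Localization.Away a')))) :=
    IsOpenImmersion.of_isLocalization a'
  have : IsOpenImmersion uA := inferInstanceAs (IsOpenImmersion (_ ≫ _))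
  have : IsOpenImmersion g := inferInstanceAs (IsOpenImmersion (_ ≫ _))
  refine ⟨Y, inferInstanceAs (IsIntegral (Spec R)), hY, uA.opensRange, g.opensRange, ?_, ⟨?_⟩⟩
  · have : Nontrivial (Localization.Away a) := e₁.toEquiv.nontrivial
    exact ⟨uA (Classical.arbitrary _), _, rfl⟩
  · let es : Spec (CommRingCat.of (Localization.Away a)) ≅ Spec (CommRingCat.of (Localization.Away a')) :=
      Scheme.Spec.mapIso θ.toRingEquiv.toCommRingCatIso.op
    have hes : es.hom = Spec.map (CommRingCat.ofHom θ.toAlgHom.toRingHom) := rfl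
    refine Over.isoMk (uA.isoOpensRange.symm ≪≫ es ≪≫ g.isoOpensRange) ?_
    have hA : uA ≫ X.hom = Spec.map (CommRingCat.ofHom (algebraMap k (Localization.Away a))) := by
      simp only [uA, Category.assoc, hj, ← Spec.map_comp, ← CommRingCat.ofHom_comp,
        ← IsScalarTower.algebraMap_eq]
    have hg : g ≫ (𝔸(ULift.{u} (Fin 1); Spec R) ↘ Spec R) ≫ Y.hom =
        Spec.map (CommRingCat.ofHom (algebraMap k (Localization.Away a'))) := by
      simp only [g, Y, Over.mk_hom, Category.assoc]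
      rw [← Category.assoc (AffineSpace.SpecIso (ULift.{u} (Fin 1)) R).inv,
        AffineSpace.SpecIso_inv_over, ← Spec.map_comp, ← Spec.map_comp]
      rfl
    show (uA.isoOpensRange.symm ≪≫ es ≪≫ g.isoOpensRange).hom ≫
      g.opensRange.ι ≫ (𝔸(ULift.{u} (Fin 1); Spec R) ↘ Spec R) ≫ Y.hom = uA.opensRange.ι ≫ X.hom
    rw [Iso.trans_hom, Iso.trans_hom, Category.assoc, Category.assoc,
      Scheme.Hom.isoOpensRange_hom_ι_assoc, hg, hes, ← Spec.map_comp, Iso.symm_hom, Iso.inv_comp_eq,
      Scheme.Hom.isoOpensRange_hom_ι_assoc, hA]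
    congr 1
    ext r
    exact θ.commutes r

end Groth.L15.GaGmField

end
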