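import Groth.Agent.L15.GaGmField.Geom
import Groth.Agent.L15.GaGmField.Model
import Groth.Prelude.Def_GmPts
import Mathlib.AlgebraicGeometry.FunctionField
import Mathlib.AlgebraicGeometry.Morphisms.FiniteType

/-! An integral variety with a nontrivial action of the additive or multiplicative group is birational
to a product with the line. -/

set_option autoImplicit false
set_option backward.isDefEq.respectTransparency false
set_option backward.isDefEq.respectTransparency.types false

universe u

open CategoryTheory MonoidalCategory CartesianMonoidalCategory MonObj GrpObj AlgebraicGeometry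
open Groth.L15.GaLaw (U Um)

noncomputable section

namespace Groth.L15.GaGmField

variable {k : Type u} [Field k]

/-- The points of the additive group. -/
def gaPts : Pts (Red.Ga (Spec (CommRingCat.of k))) 1 0 (fun R _ v w => v + w) where
  pt R _ _ v _ := Groth.L15.GaLaw.linePts.pt R v
  natural f v _ _ := Groth.L15.GaLaw.linePts.pt_natural f v
  mul {R} _ _ v w _ _ _ := by
    apply Groth.L25.GaPts.gaFn_injective
    change Red.gaFn (Groth.L25.GaPts.ptOfElt _ * Groth.L25.GaPts.ptOfElt _) =
      Red.gaFn (Groth.L25.GaPts.ptOfElt _)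
    rw [Groth.L25.GaPts.gaFn_mul, Groth.L25.GaPts.gaFn_ptOfElt, Groth.L25.GaPts.gaFn_ptOfElt,
      Groth.L25.GaPts.gaFn_ptOfElt]
    exact (map_add (Scheme.ΓSpecIso (CommRingCat.of R)).inv.hom v w).symm
  ne := by simp
  one _ := by
    apply Groth.L25.GaPts.gaFn_injective
    change Red.gaFn (Groth.L25.GaPts.ptOfElt _) = Red.gaFn _
    rw [Groth.L25.GaPts.gaFn_ptOfElt, Groth.L25.GaPts.gaFn_one]
    exact map_zero (Scheme.ΓSpecIso (CommRingCat.of k)).inv.hom
  surj R _ _ t := ⟨(Groth.L15.GaLaw.linePts.pt R).symm t, by simp, Equiv.apply_symm_apply _ _⟩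

/-- A function on `Spec R` which is a unit. -/
def specUnit {R : Type u} [CommRing R] [Algebra k R] (v : R)
    (hv : IsUnit (Polynomial.aeval v (Polynomial.X : Polynomial k))) : Γ((U (k := k) R).left, ⊤)ˣ :=
  ((show IsUnit v by rwa [Polynomial.aeval_X] at hv).map
    (Scheme.ΓSpecIso (CommRingCat.of R)).inv.hom).unit

theorem specUnit_val {R : Type u} [CommRing R] [Algebra k R] (v : R)
    (hv : IsUnit (Polynomial.aeval v (Polynomial.X : Polynomial k))) :
    (specUnit v hv : Γ((U (k := k) R).left, ⊤)) = (Scheme.ΓSpecIso (CommRingCat.of R)).inv v := rfl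

/-- The points of the multiplicative group. -/
def gmPts : Pts (Red.Gm (Spec (CommRingCat.of k))) Polynomial.X 1 (fun R _ v w => v * w) where
  pt R _ _ v hv := GmPts.ptOfUnit (specUnit v hv)
  natural {R R'} _ _ _ _ f v hv hv' := by
    rw [GmPts.ptOfUnit_comp]
    congr 1
    ext
    exact (congrArg (fun ψ => (ConcreteCategory.hom ψ) v)
      (Scheme.ΓSpecIso_inv_naturality (CommRingCat.ofHom f.toRingHom))).symm
  mul {R} _ _ v w hv hw h := by
    rw [← GmPts.ptOfUnit_mul]
    congr 1
    ext
    rw [Units.val_mul, specUnit_val, specUnit_val, specUnit_val]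
    exact (map_mul _ v w).symm
  ne := by simp
  one h := by
    rw [← GmPts.ptOfUnit_one]
    congr 1
    ext
    rw [specUnit_val, Units.val_one]
    exact map_one _
  surj R _ _ t := by
    obtain ⟨v, hv⟩ : ∃ v : R, (Scheme.ΓSpecIso (CommRingCat.of R)).inv v =
        ((GmPts.unitOfPt t : Γ((U (k := k) R).left, ⊤)ˣ) : Γ((U (k := k) R).left, ⊤)) :=
      ⟨_, (Scheme.ΓSpecIso (CommRingCat.of R)).hom_inv_id_apply _⟩
    have hu : IsUnit v := by
      have := ((GmPts.unitOfPt t).isUnit).map (Scheme.ΓSpecIso (CommRingCat.of R)).hom.hom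
      rw [← hv] at this
      simpa using this
    refine ⟨v, by rwa [Polynomial.aeval_X], ?_⟩
    apply GmPts.gmFn_injective
    change Red.gmFn (GmPts.ptOfUnit _) = Red.gmFn t
    rw [GmPts.gmFn_ptOfUnit, specUnit_val, hv]
    rfl

/-- Transport of points along an isomorphism of groups. -/
def Pts.ofIso {G G' : Over (Spec (CommRingCat.of k))} [GrpObj G] [GrpObj G'] {M : Polynomial k} {c₀ : k}
    {op : ∀ (R : Type u) [CommRing R], R → R → R} (P : Pts G' M c₀ op)
    (e : Grp.mk G ≅ Grp.mk G') : Pts G M c₀ op where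
  pt R _ _ v hv := P.pt R v hv ≫ e.inv.hom.hom
  natural f v hv hv' := by rw [← Category.assoc, P.natural f v hv hv']
  mul v w hv hw h := by rw [← MonObj.mul_comp, P.mul v w hv hw h]
  ne := P.ne
  one h := by rw [P.one h, MonObj.one_comp]
  surj R _ _ t := by
    obtain ⟨v, hv, h⟩ := P.surj R (t ≫ e.hom.hom.hom)
    refine ⟨v, hv, ?_⟩
    rw [h, Category.assoc]
    have : e.hom.hom.hom ≫ e.inv.hom.hom = 𝟙 G :=
      congrArg (fun φ => φ.hom.hom) e.hom_inv_id
    rw [this, Category.comp_id]

theorem birational_line {G X : Over (Spec (CommRingCat.of k))} [GrpObj G]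
    (hG : Nonempty (Grp.mk G ≅ Grp.mk (Red.Ga (Spec (CommRingCat.of k)))) ∨
      Nonempty (Grp.mk G ≅ Grp.mk (Red.Gm (Spec (CommRingCat.of k)))))
    [IsIntegral X.left] [LocallyOfFiniteType X.hom] [IsSeparated X.hom]
    (a : AlgGrp.Action G X) (ha : a.act ≠ snd G X) :
    ∃ (Y : Over (Spec (CommRingCat.of k))) (_ : IsIntegral Y.left) (_ : LocallyOfFiniteType Y.hom)
      (U : X.left.Opens) (V : (𝔸(ULift.{u} (Fin 1); Y.left)).Opens), (U : Set X.left).Nonempty ∧
      Nonempty (Over.mk (U.ι ≫ X.hom) ≅
        Over.mk (V.ι ≫ (𝔸(ULift.{u} (Fin 1); Y.left) ↘ Y.left) ≫ Y.hom)) := by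
  let L : Type u := X.left.functionField
  letI : Algebra k L :=
    (Spec.preimage (X.left.fromSpecStalk (genericPoint X.left) ≫ X.hom)).hom.toAlgebra
  let gp : U (k := k) L ⟶ X := Over.homMk (X.left.fromSpecStalk (genericPoint X.left))
    (Spec.map_preimage (X.left.fromSpecStalk (genericPoint X.left) ≫ X.hom)).symm
  have mkChart : ∀ (W : X.left.Opens) (hW : IsAffineOpen W) (y : X.left), y ∈ W →
      ∃ C : Chart gp, y ∈ Set.range C.j.left ∧ Algebra.FiniteType k C.A := by
    intro W hW y hy
    haveI : Nonempty W := ⟨⟨y, hy⟩⟩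
    have hgW : genericPoint X.left ∈ W :=
      ((genericPoint_spec X.left).mem_open_set_iff W.isOpen).2 ⟨y, trivial, hy⟩
    let A : Type u := Γ(X.left, W)
    letI : Algebra k A := (Spec.preimage (hW.fromSpec ≫ X.hom)).hom.toAlgebra
    let g : A →+* L := (X.left.germToFunctionField W).hom
    have hg : Spec.map (CommRingCat.ofHom g) ≫ hW.fromSpec = X.left.fromSpecStalk (genericPoint X.left) :=
      hW.fromSpecStalk_eq_fromSpecStalk hgW
    let incl : A →ₐ[k] L :=
      { g with
        commutes' := fun r => by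
          have h : Spec.map (CommRingCat.ofHom g) ≫ Spec.map (Spec.preimage (hW.fromSpec ≫ X.hom)) =
              Spec.map (Spec.preimage (X.left.fromSpecStalk (genericPoint X.left) ≫ X.hom)) := by
            rw [Spec.map_preimage, Spec.map_preimage, ← Category.assoc, hg]
          rw [← Spec.map_comp] at h
          exact RingHom.congr_fun (congrArg CommRingCat.Hom.hom (Spec.map_injective h)) r }
    haveI := functionField_isFractionRing_of_isAffineOpen X.left W hW
    refine ⟨{ A := A, incl := incl, inj := X.left.germToFunctionField_injective W,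
              frac := fun z => ?_,
              j := Over.homMk hW.fromSpec (Spec.map_preimage _).symm,
              isOpenImmersion := inferInstanceAs (IsOpenImmersion hW.fromSpec),
              comp := Over.OverMorphism.ext hg }, ?_, ?_⟩
    · obtain ⟨p, q, hq, rfl⟩ := IsFractionRing.div_surjective (A := A) z
      exact ⟨p, q, (map_ne_zero_iff _ (X.left.germToFunctionField_injective W)).2
          (nonZeroDivisors.ne_zero hq),
        div_mul_cancel₀ _ ((map_ne_zero_iff _ (X.left.germToFunctionField_injective W)).2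
          (nonZeroDivisors.ne_zero hq))⟩
    · show y ∈ Set.range hW.fromSpec
      rw [hW.range_fromSpec]
      exact hy
    · show Algebra.FiniteType k A
      rw [← RingHom.finiteType_algebraMap]
      have h : LocallyOfFiniteType (Spec.map (Spec.preimage (hW.fromSpec ≫ X.hom))) := by
        rw [Spec.map_preimage]; infer_instance
      exact (HasRingHomProperty.Spec_iff (P := @LocallyOfFiniteType)).1 h
  have hcover : ∀ y : X.left, ∃ C : Chart gp, y ∈ Set.range C.j.left := fun y => by
    obtain ⟨W, hW, hy, -⟩ := exists_isAffineOpen_mem_and_subset (show y ∈ (⊤ : X.left.Opens) from trivial)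
    obtain ⟨C, hC, -⟩ := mkChart W hW y hy
    exact ⟨C, hC⟩
  obtain ⟨W₀, hW₀, hy₀, -⟩ := exists_isAffineOpen_mem_and_subset
    (show genericPoint X.left ∈ (⊤ : X.left.Opens) from trivial)
  obtain ⟨C₀, -, hft⟩ := mkChart W₀ hW₀ _ hy₀
  haveI := C₀.isOpenImmersion
  suffices h : ∃ (c : IntermediateField k L) (x : L), Transcendental c x ∧
      ∀ f, f ∈ IntermediateField.adjoin k ((c : Set L) ∪ {x}) by
    obtain ⟨c, x, hx, hgen⟩ := h
    exact exists_line C₀.j.left (Over.w C₀.j) C₀.incl C₀.inj C₀.frac c x hx hgen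
  rcases hG with ⟨⟨e⟩⟩ | ⟨⟨e⟩⟩
  · obtain ⟨c, hc⟩ := exists_core (gaPts.ofIso e) a gp C₀ hcover (opAdd L)
      (Polynomial.natDegree_X_add_C _) (by
        show _ + _ = _
        rw [map_add, RatFunc.algebraMap_C]) ha
    generalize hz : algebraMap k L 0 = z at c hc
    rw [map_zero] at hz
    subst hz
    exact ⟨c.inv, exists_adjoin_add c hc⟩
  · obtain ⟨c, hc⟩ := exists_core (gmPts.ofIso e) a gp C₀ hcover (opMul L)
      (Polynomial.natDegree_C_mul_X _ RatFunc.X_ne_zero) (by
        show _ * _ = _
        rw [map_mul, RatFunc.algebraMap_C, mul_comm]) ha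
    generalize hz : algebraMap k L 1 = z at c hc
    rw [map_one] at hz
    subst hz
    exact ⟨c.inv, exists_adjoin_mul c hc⟩

end Groth.L15.GaGmField

end
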